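import Cfsg.Agent.Lib.Glauberman.Solvable
import Cfsg.Agent.Lib.Char.Clifford
import Cfsg.Agent.Lib.Char.KernelSum
import Cfsg.Agent.Lib.Char.Descend
import Cfsg.Agent.Lib.Clifford.CoprimeExtension
import Cfsg.Agent.Lib.Coprime.Basic
import Cfsg.Agent.Lib.Transfer.Tate
import Cfsg.Agent.Lib.Transfer.ConjFamily
import Cfsg.Agent.Lib.PGroup.Frattini
import Cfsg.Agent.Lib.Solvable.Basic

/-!
# The common kernel of the characters of degree prime to `p`

With `N` the largest normal subgroup meeting `C(P)` trivially, the common kernel is the core of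
`N P'`: Glauberman's fixed point count, Tate's complement theorem and coprime extension.
-/

set_option autoImplicit false
set_option linter.style.haveILetI false
set_option linter.unusedSectionVars false

namespace Cfsg.Agent.KernelPPrime

open Cfsg Cfsg.Agent.Char
open scoped Classical ComplexConjugate Pointwise

universe u v

/-- Constituents survive restriction. -/
theorem classInner_comp_ne_zero {A : Type u} [Group A] [Fintype A] {B : Type v} [Group B]
    [Fintype B] (i : B →* A) {f : A → ℂ} (hf : IsCharacter A f) (μ : IrrCharacter A)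
    (ν : IrrCharacter B) (h1 : classInner f μ.1 ≠ 0)
    (h2 : classInner (fun b => μ.1 (i b)) ν.1 ≠ 0) : classInner (fun b => f (i b)) ν.1 ≠ 0 := by
  obtain ⟨m, hm, hm'⟩ := IsCharacter.exists_decomp hf
  choose k hk using fun η : IrrCharacter A => IsCharacter.exists_nat_classInner
    (IsCharacter.comp (irr_isCharacter η) i) (irr_isCharacter ν)
  have e : (fun b => f (i b)) = ∑ η, (m η : ℂ) • fun b => η.1 (i b) := by
    funext b; rw [congrFun hm (i b)]; simp
  have e2 : classInner (fun b => f (i b)) ν.1 = ((∑ η, m η * k η : ℕ) : ℂ) := by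
    rw [e, classInner_sum_left, Nat.cast_sum]
    exact Finset.sum_congr rfl fun η _ => by rw [classInner_smul_left, hk, Nat.cast_mul]
  rw [e2, Nat.cast_ne_zero]
  intro h0
  rw [hm', Nat.cast_ne_zero] at h1
  rw [hk, Nat.cast_ne_zero] at h2
  exact mul_ne_zero h1 h2 (Finset.sum_eq_zero_iff.1 h0 μ (Finset.mem_univ μ))

/-- A character of degree prime to `p` has a constituent of degree prime to `p`. -/
theorem exists_constituent_not_dvd {A : Type u} [Group A] [Fintype A] {p d : ℕ} {f : A → ℂ}
    (hf : IsCharacter A f) (hd : f 1 = d) (hpd : ¬ p ∣ d) :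
    ∃ μ : IrrCharacter A, ¬ p ∣ degree μ ∧ classInner f μ.1 ≠ 0 := by
  obtain ⟨m, hm, hm'⟩ := IsCharacter.exists_decomp hf
  have h1 : d = ∑ η, m η * degree η := by
    have := congrFun hm 1
    rw [hd] at this
    simp only [Finset.sum_apply, Pi.smul_apply, smul_eq_mul, apply_one_eq_degree] at this
    exact_mod_cast this
  by_contra hcon
  push Not at hcon
  refine hpd (h1 ▸ Finset.dvd_sum fun η _ => ?_)
  by_cases h : p ∣ degree η
  · exact Dvd.dvd.mul_left h _
  · have h3 := hcon η h
    rw [hm', Nat.cast_eq_zero] at h3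
    simp [h3]

variable {G : Type u} [Group G] [Fintype G] {p : ℕ} [hp : Fact p.Prime]

/-- An irreducible character with a trivial constituent on a normal subgroup is trivial there. -/
theorem apply_eq_of_trivial_constituent (X : Subgroup G) [X.Normal] [Fintype X]
    (χ : IrrCharacter G) (h : classInner (resFun X χ.1) (trivialChar X).1 ≠ 0) :
    ∀ x ∈ X, χ.1 x = χ.1 1 := by
  obtain ⟨m, hm, hm'⟩ := IsCharacter.exists_decomp (IsCharacter.restrict (irr_isCharacter χ) X)
  have hz : ∀ η : IrrCharacter X, η ≠ trivialChar X → m η = 0 := by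
    intro η hη
    by_contra h0
    have hne : classInner (resFun X χ.1) η.1 ≠ 0 := by
      rw [show resFun X χ.1 = fun x : X => χ.1 x from rfl, hm', Nat.cast_ne_zero]; exact h0
    obtain ⟨g, hg⟩ := exists_conjChar_of_constituents X χ (trivialChar X) η h hne
    exact hη (hg.trans (Subtype.ext (funext fun _ => rfl)))
  have hval : ∀ x : X, χ.1 x = (m (trivialChar X) : ℂ) := fun x => by
    have := congrFun hm x
    rw [this, Finset.sum_apply, Finset.sum_eq_single (trivialChar X)
      (fun η _ hη => by simp [hz η hη]) (fun h => absurd (Finset.mem_univ _) h)]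
    simp [trivialChar]
  intro x hx
  rw [hval ⟨x, hx⟩, ← hval 1, Subgroup.coe_one]

variable (P : Sylow p G) (M : Subgroup G) [M.Normal]

/-- `P` acting on `M` by conjugation. -/
noncomputable def act : (P : Subgroup G) →* MulAut M :=
  (MulAut.conjNormal (H := M)).comp (P : Subgroup G).subtype

theorem not_dvd_card_of_inf_centralizer
    (h : M ⊓ Subgroup.centralizer ((P : Subgroup G) : Set G) = ⊥) : ¬ p ∣ Nat.card M := by
  intro hd
  have hne : M.subgroupOf (P : Subgroup G) ≠ ⊥ := by
    intro hb
    have h1 := Transfer.not_dvd_index_subgroupOf_of_normal P M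
    have h2 : (P : Subgroup G).subgroupOf M = ⊥ := by
      rw [Subgroup.subgroupOf_eq_bot] at hb ⊢; exact hb.symm
    rw [h2, Subgroup.index_bot] at h1
    exact h1 hd
  haveI : Group.IsNilpotent (P : Subgroup G) := P.2.isNilpotent
  haveI : (M.subgroupOf (P : Subgroup G)).Normal := inferInstance
  refine Solvable.inf_center_ne_bot hne ((Subgroup.eq_bot_iff_forall _).2 ?_)
  rintro ⟨x, hxP⟩ ⟨hxM, hxc⟩
  have : x ∈ M ⊓ Subgroup.centralizer ((P : Subgroup G) : Set G) :=
    ⟨Subgroup.mem_subgroupOf.1 hxM, Subgroup.mem_centralizer_iff.2 fun a ha =>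
      congrArg Subtype.val (Subgroup.mem_center_iff.1 hxc ⟨a, ha⟩)⟩
  rw [h, Subgroup.mem_bot] at this
  exact Subtype.ext this

variable [Fintype M]

theorem coprime_card (hM : ¬ p ∣ Nat.card M) :
    (Nat.card M).Coprime (Nat.card (P : Subgroup G)) := by
  obtain ⟨k, hk⟩ := P.2.exists_card_eq
  rw [hk]
  exact ((hp.out.coprime_iff_not_dvd.2 hM).symm.pow_right k)

/-- Only the trivial character is fixed iff only the identity is centralised. -/
theorem isFix_imp_trivial (hM : M ⊓ Subgroup.centralizer ((P : Subgroup G) : Set G) = ⊥)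
    (η : IrrCharacter M) (hη : Glauberman.IsFix (act P M) η.1) : η = trivialChar M := by
  have hnd := not_dvd_card_of_inf_centralizer P M hM
  haveI : Group.IsNilpotent (P : Subgroup G) := P.2.isNilpotent
  have hsolv : Group.IsSolvable (P : Subgroup G) := inferInstance
  have hcount := Glauberman.card_fix_irr_eq_card_fix_classes hsolv (act P M) (coprime_card P M hnd)
  have hsub : Subsingleton {K : ConjClasses M // ∀ t, ConjClasses.map (act P M t).toMonoidHom K = K} := by
    suffices hk : ∀ K : ConjClasses M, (∀ t, ConjClasses.map (act P M t).toMonoidHom K = K) →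
        K = ConjClasses.mk 1 from ⟨fun a b => Subtype.ext ((hk _ a.2).trans (hk _ b.2).symm)⟩
    intro K hK
    obtain ⟨x, rfl⟩ := ConjClasses.exists_rep K
    letI : MulAction G G := MulAction.compHom G (MulAut.conj : G →* MulAut G)
    obtain ⟨k, hk, hkA⟩ := Coprime.exists_fixed_point (X := G) (A := (P : Subgroup G)) (K := M)
      (by rw [Subgroup.normalizer_eq_top]; exact le_top) (coprime_card P M hnd).symm (Or.inl hsolv)
      (x : G) (fun a ha => by
        obtain ⟨c, hc⟩ := isConj_iff.1 (ConjClasses.mk_eq_mk_iff_isConj.1 (hK ⟨a, ha⟩)).symm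
        refine ⟨c, c.2, ?_⟩
        have := congrArg Subtype.val hc
        simpa [act, MulAction.compHom_smul_def, MulAut.smul_def] using this)
    have hfix : k * x * k⁻¹ ∈ M ⊓ Subgroup.centralizer ((P : Subgroup G) : Set G) :=
      ⟨M.mul_mem (M.mul_mem hk x.2) (M.inv_mem hk), Subgroup.mem_centralizer_iff.2 fun a ha => by
        have h2 : a * (k * x * k⁻¹) * a⁻¹ = k * x * k⁻¹ := hkA a ha
        exact mul_inv_eq_iff_eq_mul.1 h2⟩
    rw [hM, Subgroup.mem_bot, mul_inv_eq_one] at hfix
    have hx1 : (x : G) = 1 := mul_left_cancel (hfix.trans (mul_one k).symm)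
    rw [show x = 1 from Subtype.ext hx1]
  have hone : Subsingleton {χ : IrrCharacter M // Glauberman.IsFix (act P M) χ.1} :=
    (Finite.card_le_one_iff_subsingleton).1 (hcount ▸ Finite.card_le_one_iff_subsingleton.2 hsub)
  exact congrArg Subtype.val
    (hone.elim ⟨η, hη⟩ ⟨trivialChar M, fun _ _ => rfl⟩)

/-- A centralised element gives a non-trivial fixed character. -/
theorem exists_isFix_ne_trivial (hnd : ¬ p ∣ Nat.card M)
    (hM : M ⊓ Subgroup.centralizer ((P : Subgroup G) : Set G) ≠ ⊥) :
    ∃ η : IrrCharacter M, η ≠ trivialChar M ∧ Glauberman.IsFix (act P M) η.1 := by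
  obtain ⟨c, hc, hc1⟩ := (Subgroup.bot_or_exists_ne_one _).resolve_left hM
  haveI : Group.IsNilpotent (P : Subgroup G) := P.2.isNilpotent
  have hsolv : Group.IsSolvable (P : Subgroup G) := inferInstance
  have hcount := Glauberman.card_fix_irr_eq_card_fix_classes hsolv (act P M) (coprime_card P M hnd)
  by_contra hcon
  push Not at hcon
  have hone : Nat.card {χ : IrrCharacter M // Glauberman.IsFix (act P M) χ.1} ≤ 1 :=
    Finite.card_le_one_iff_subsingleton.2 ⟨fun a b => Subtype.ext (by
      have ha := fun h => hcon a.1 h a.2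
      have hb := fun h => hcon b.1 h b.2
      exact (not_not.1 ha).trans (not_not.1 hb).symm)⟩
  rw [hcount, Finite.card_le_one_iff_subsingleton] at hone
  have hfix : ∀ t, ConjClasses.map (act P M t).toMonoidHom (ConjClasses.mk ⟨c, hc.1⟩) =
      ConjClasses.mk ⟨c, hc.1⟩ := fun t => by
    show ConjClasses.mk (act P M t ⟨c, hc.1⟩) = _
    congr 1
    refine Subtype.ext ?_
    show (t : G) * c * (t : G)⁻¹ = c
    rw [Subgroup.mem_centralizer_iff.1 hc.2 t t.2, mul_inv_cancel_right]
  have h1 := congrArg Subtype.val (hone.elim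
    ⟨ConjClasses.mk ⟨c, hc.1⟩, hfix⟩ ⟨ConjClasses.mk 1, fun t => by
      show ConjClasses.mk (act P M t 1) = _
      rw [map_one]⟩)
  have h2 := ConjClasses.mk_eq_mk_iff_isConj.1 h1
  rw [isConj_one_left] at h2
  exact hc1 (congrArg Subtype.val h2)

/-- Characters of degree prime to `p` are trivial on `M`. -/
theorem apply_eq_of_inf_centralizer
    (hM : M ⊓ Subgroup.centralizer ((P : Subgroup G) : Set G) = ⊥) (χ : IrrCharacter G)
    (hχ : ¬ p ∣ degree χ) : ∀ x ∈ M, χ.1 x = χ.1 1 := by
  refine apply_eq_of_trivial_constituent M χ fun h0 => hχ ?_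
  letI := Glauberman.charAction (act P M)
  obtain ⟨m, hm, hm'⟩ := IsCharacter.exists_decomp (IsCharacter.restrict (irr_isCharacter χ) M)
  let f : IrrCharacter M → ℂ := fun η => classInner (resFun M χ.1) η.1 * η.1 1
  have hfn : ∀ η, f η = ((m η * degree η : ℕ) : ℂ) := fun η => by
    simp only [f]
    rw [show resFun M χ.1 = fun x : M => χ.1 x from rfl, hm', apply_one_eq_degree, Nat.cast_mul]
  have hinv : ∀ (s : (P : Subgroup G)) η, f (s • η) = f η := by
    intro s η
    have e : (s • η).1 = conjFun M η.1 ((s⁻¹ : (P : Subgroup G)) : G) := rfl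
    simp only [f]
    rw [e, classInner_resFun_conjFun M (IsCharacter.isClassFunction (irr_isCharacter χ)),
      conjFun_apply_one]
  have hint : ∀ η, IsIntegral ℤ (f η) := fun η => by
    rw [hfn]; exact Glauberman.isIntegral_natCast' _
  have hc := Glauberman.pCong_sum_fixedPoints (p := p) P.2 f hinv hint
  have hsum : ∑ η, f η = (degree χ : ℂ) := by
    rw [← apply_one_eq_degree]
    have := congrFun hm 1
    simp only [Finset.sum_apply, Pi.smul_apply, smul_eq_mul, Subgroup.coe_one] at this
    rw [this]
    exact Finset.sum_congr rfl fun η _ => by rw [hfn, apply_one_eq_degree, Nat.cast_mul]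
  have hfixsum : ∀ η, η ∈ MulAction.fixedPoints (P : Subgroup G) (IrrCharacter M) → f η = 0 := by
    intro η hη
    rw [isFix_imp_trivial P M hM η (Glauberman.mem_fixedPoints_charAction.1 hη)]
    simp only [f]
    rw [h0, zero_mul]
  rw [hsum, Finset.sum_eq_zero fun η hη => hfixsum η (Finset.mem_filter.1 hη).2] at hc
  exact_mod_cast Glauberman.dvd_of_pCong_zero (n := (degree χ : ℤ)) (by simpa using hc)

end Cfsg.Agent.KernelPPrime
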