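import Cfsg.Agent.Lib.KernelPPrime.Basic
import Cfsg.Agent.Lib.Char.Induction
import Cfsg.Agent.Lib.Char.TwoDegrees

/-!
# The common kernel is the core of `N P'`
-/

set_option autoImplicit false
set_option linter.style.haveILetI false
set_option linter.unusedSectionVars false

namespace Cfsg.Agent.KernelPPrime

open Cfsg Cfsg.Agent.Char
open scoped Classical ComplexConjugate

universe u

variable {G : Type u} [Group G] [Fintype G] {p : ℕ} [hp : Fact p.Prime]

/-- The common kernel of the characters of degree prime to `p`. -/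
def kerPPrime (G : Type u) [Group G] [Fintype G] (p : ℕ) : Subgroup G where
  carrier := {k | ∀ χ : IrrCharacter G, ¬ p ∣ degree χ → ∀ g, χ.1 (k * g) = χ.1 g}
  one_mem' := fun χ _ g => by rw [one_mul]
  mul_mem' := fun {a b} ha hb χ hχ g => by rw [mul_assoc, ha χ hχ, hb χ hχ]
  inv_mem' := fun {a} ha χ hχ g => by
    rw [← ha χ hχ (a⁻¹ * g), mul_inv_cancel_left]

theorem mem_kerPPrime {k : G} :
    k ∈ kerPPrime G p ↔ ∀ χ : IrrCharacter G, ¬ p ∣ degree χ → χ.1 k = χ.1 1 :=
  ⟨fun h χ hχ => by simpa using h χ hχ 1,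
    fun h χ hχ g => CharInt.char_mul_of_mem_kernel (irr_isCharacter χ) (h χ hχ) g⟩

instance kerPPrime_normal : (kerPPrime G p).Normal :=
  ⟨fun k hk x => mem_kerPPrime.2 fun χ hχ => by
    rw [IsCharacter.isClassFunction (irr_isCharacter χ) k x]
    exact mem_kerPPrime.1 hk χ hχ⟩

variable (P : Sylow p G)

theorem not_dvd_index_of_ge {J : Subgroup G} (h : (P : Subgroup G) ≤ J) : ¬ p ∣ J.index :=
  fun hd => P.not_dvd_index (hd.trans (Subgroup.index_dvd_of_le h))

/-- A character of `J ⊇ P` of degree prime to `p` lies under one of `G`. -/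
theorem exists_over {J : Subgroup G} [Fintype J] (hJ : (P : Subgroup G) ≤ J) (θ : IrrCharacter J)
    (hθ : ¬ p ∣ degree θ) :
    ∃ χ : IrrCharacter G, ¬ p ∣ degree χ ∧ classInner (fun j : J => χ.1 j) θ.1 ≠ 0 := by
  obtain ⟨χ, hχ, hne⟩ := exists_constituent_not_dvd (p := p) (d := J.index * degree θ)
    (isCharacter_indFun J (irr_isCharacter θ))
    (by rw [indFun_apply_one, apply_one_eq_degree, Nat.cast_mul])
    (fun h => (hp.out.dvd_mul.1 h).elim (not_dvd_index_of_ge P hJ) hθ)
  refine ⟨χ, hχ, fun h0 => hne ?_⟩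
  rw [classInner_indFun J _ (IsCharacter.isClassFunction (irr_isCharacter χ)), ← conj_classInner,
    h0, map_zero]

/-- The kernel meets `P` inside the derived subgroup of `P`. -/
theorem inf_le_commutator :
    kerPPrime G p ⊓ (P : Subgroup G) ≤ ⁅(P : Subgroup G), (P : Subgroup G)⁆ := by
  rintro x ⟨hxK, hxP⟩
  have key : ∀ lam : (P : Subgroup G) →* ℂ, lam ⟨x, hxP⟩ = 1 := by
    intro lam
    have hdeg : degree (linIrr lam) = 1 := degree_eq_of_apply_one (by
      show lam 1 = _
      rw [map_one, Nat.cast_one])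
    obtain ⟨χ, hχ, hne⟩ := exists_over P le_rfl (linIrr lam)
      (by rw [hdeg]; exact hp.out.not_dvd_one)
    set x' : (P : Subgroup G) := ⟨x, hxP⟩
    set S := ∑ y : (P : Subgroup G), χ.1 (y : G) * conj (lam y) with hS
    have h1 : S = conj (lam x') * S := by
      rw [Finset.mul_sum]
      refine (Fintype.sum_equiv (Equiv.mulLeft x') _ _ fun y => ?_).symm
      rw [Equiv.coe_mulLeft, map_mul, map_mul, Subgroup.coe_mul, hxK χ hχ]
      ring
    have h2 : S ≠ 0 := fun h => hne (by
      show (Nat.card (P : Subgroup G) : ℂ)⁻¹ * S = 0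
      rw [h, mul_zero])
    have h3 : conj (lam x') = 1 := (mul_eq_right₀ h2).1 h1.symm
    rw [← map_one (starRingEnd ℂ)] at h3
    exact (starRingEnd ℂ).injective h3
  have h4 : (⟨x, hxP⟩ : (P : Subgroup G)) ∈ commutator (P : Subgroup G) := by
    refine (QuotientGroup.eq_one_iff _).1 (show Abelianization.of (⟨x, hxP⟩ : (P : Subgroup G)) = 1
      from eq_one_of_forall_hom (H := Abelianization (P : Subgroup G)) mul_comm
        fun v => Units.ext ?_)
    exact key ((Units.coeHom ℂ).comp (v.comp Abelianization.of))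
  rw [← Subgroup.map_subtype_commutator]
  exact ⟨_, h4, rfl⟩

variable (N : Subgroup G) [N.Normal]

/-- The core of `N P'` lies in the kernel. -/
theorem core_le (hN : N ⊓ Subgroup.centralizer ((P : Subgroup G) : Set G) = ⊥) :
    (N ⊔ ⁅(P : Subgroup G), (P : Subgroup G)⁆).normalCore ≤ kerPPrime G p := by
  intro x hx
  refine mem_kerPPrime.2 fun χ hχ => ?_
  have hnd := not_dvd_card_of_inf_centralizer P N hN
  set D := ⁅(P : Subgroup G), (P : Subgroup G)⁆ with hD
  have hDP : D ≤ (P : Subgroup G) := Subgroup.commutator_le_self _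
  set J := N ⊔ D
  set X := J.normalCore
  have hXJ : X ≤ J := J.normalCore_le
  haveI : Fintype N := Fintype.ofFinite _
  haveI : Fintype J := Fintype.ofFinite _
  haveI : Fintype X := Fintype.ofFinite _
  haveI : Fintype D := Fintype.ofFinite _
  -- a linear constituent on `P`
  obtain ⟨μ, hμ, hμne⟩ := exists_constituent_not_dvd (p := p) (d := degree χ)
    (IsCharacter.restrict (irr_isCharacter χ) (P : Subgroup G))
    (by rw [Subgroup.coe_one, apply_one_eq_degree]) hχ
  have hμ1 : degree μ = 1 := by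
    obtain ⟨k, hk⟩ := P.2.exists_card_eq
    have h1 := charDegree_dvd_card μ
    rw [Char.charDegree_eq_degree, hk] at h1
    obtain ⟨j, -, hj⟩ := (Nat.dvd_prime_pow hp.out).1 h1
    rcases Nat.eq_zero_or_pos j with rfl | hj0
    · simpa using hj
    · exact absurd (hj ▸ dvd_pow_self p hj0.ne') hμ
  obtain ⟨lam, hl⟩ := IsCharacter.exists_monoidHom (irr_isCharacter μ)
    (by rw [apply_one_eq_degree, hμ1, Nat.cast_one])
  have hlamD : ∀ y : D, lam (Subgroup.inclusion hDP y) = 1 := by
    intro y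
    have hy : Subgroup.inclusion hDP y ∈ commutator (P : Subgroup G) := by
      have h2 : (y : G) ∈ (commutator (P : Subgroup G)).map (P : Subgroup G).subtype := by
        rw [Subgroup.map_subtype_commutator]; exact y.2
      obtain ⟨z, hz, hzy⟩ := h2
      rwa [show Subgroup.inclusion hDP y = z from Subtype.ext hzy.symm]
    exact congrArg Units.val
      (MonoidHom.mem_ker.1 (Abelianization.commutator_subset_ker lam.toHomUnits hy))
  have hDne : classInner (fun y : D => χ.1 y) (trivialChar D).1 ≠ 0 := by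
    refine classInner_comp_ne_zero (Subgroup.inclusion hDP)
      (IsCharacter.restrict (irr_isCharacter χ) (P : Subgroup G)) μ (trivialChar D) hμne ?_
    rw [show (fun y => μ.1 (Subgroup.inclusion hDP y)) = (trivialChar D).1 from
      funext fun y => by rw [← hl, hlamD y]; rfl, classInner_irr_self (trivialChar D).2]
    exact one_ne_zero
  -- constituent on `J`
  have hbij : Function.Bijective fun q : N × D =>
      (⟨(q.1 : G) * q.2, J.mul_mem (Subgroup.mem_sup_left q.1.2) (Subgroup.mem_sup_right q.2.2)⟩ :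
        J) := by
    refine ⟨fun a b hab => ?_, fun j => ?_⟩
    · have h1 : (a.1 : G) * a.2 = b.1 * b.2 := congrArg Subtype.val hab
      have h2 : (b.1 : G)⁻¹ * a.1 = b.2 * (a.2 : G)⁻¹ := by
        rw [eq_mul_inv_iff_mul_eq, mul_assoc, h1, inv_mul_cancel_left]
      have h3 : (b.1 : G)⁻¹ * a.1 ∈ N ⊓ (P : Subgroup G) :=
        ⟨N.mul_mem (N.inv_mem b.1.2) a.1.2,
          h2 ▸ (P : Subgroup G).mul_mem (hDP b.2.2) ((P : Subgroup G).inv_mem (hDP a.2.2))⟩
      have h4 : N ⊓ (P : Subgroup G) = ⊥ :=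
        Subgroup.inf_eq_bot_of_coprime (coprime_card P N hnd)
      rw [h4, Subgroup.mem_bot, inv_mul_eq_one] at h3
      have h5 : a.1 = b.1 := Subtype.ext h3.symm
      rw [h5, mul_right_inj] at h1
      exact Prod.ext h5 (Subtype.ext h1)
    · obtain ⟨n, hn, y, hy, hny⟩ := Subgroup.mem_sup_of_normal_left.1 j.2
      exact ⟨(⟨n, hn⟩, ⟨y, hy⟩), Subtype.ext hny⟩
  have hJne : classInner (fun j : J => χ.1 j) (trivialChar J).1 ≠ 0 := by
    have h1 : ∑ j : J, χ.1 j = (Nat.card N : ℂ) * ∑ y : D, χ.1 y := by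
      rw [← hbij.sum_comp fun j : J => χ.1 j, Fintype.sum_prod_type]
      have h2 : ∀ (n : N) (y : D), χ.1 ((n : G) * y) = χ.1 y := fun n y =>
        CharInt.char_mul_of_mem_kernel (irr_isCharacter χ)
          (apply_eq_of_inf_centralizer P N hN χ hχ n n.2) y
      simp [h2, Nat.card_eq_fintype_card]
    intro h0
    apply hDne
    simp only [classInner, trivialChar, map_one, mul_one, h1] at h0 ⊢
    rw [mul_eq_zero, mul_eq_zero] at h0
    rcases h0 with h0 | h0 | h0
    · exact absurd h0 (inv_ne_zero (Nat.cast_ne_zero.2 Nat.card_pos.ne'))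
    · exact absurd h0 (Nat.cast_ne_zero.2 Nat.card_pos.ne')
    · rw [h0, mul_zero]
  refine apply_eq_of_trivial_constituent X χ ?_ x hx
  refine classInner_comp_ne_zero (Subgroup.inclusion hXJ)
    (IsCharacter.restrict (irr_isCharacter χ) J) (trivialChar J) (trivialChar X) hJne ?_
  rw [show (fun b => (trivialChar J).1 (Subgroup.inclusion hXJ b)) = (trivialChar X).1 from rfl,
    classInner_irr_self (trivialChar X).2]
  exact one_ne_zero

/-- The kernel lies in the core of `N P'`. -/
theorem le_core (hmax : ∀ L : Subgroup G, L.Normal →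
      L ⊓ Subgroup.centralizer ((P : Subgroup G) : Set G) = ⊥ → L ≤ N) :
    kerPPrime G p ≤ (N ⊔ ⁅(P : Subgroup G), (P : Subgroup G)⁆).normalCore := by
  set K := kerPPrime G p with hK
  have hKP := inf_le_commutator P
  have hfr : K ⊓ (P : Subgroup G) ≤
      (frattini (P : Subgroup G)).map (P : Subgroup G).subtype := by
    refine hKP.trans ?_
    rw [← Subgroup.map_subtype_commutator]
    exact Subgroup.map_mono (PGroup.commutator_le_frattini P.2)
  obtain ⟨S, M₀, hM₀n, hcompl⟩ :=
    Transfer.hasNormalPComplement_normal_of_le_frattini P K hfr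
  haveI := hM₀n
  set M := M₀.map K.subtype with hM
  have hcard : Nat.card M₀ = (S : Subgroup K).index := hcompl.index_eq_card.symm
  have hnd₀ : ¬ p ∣ Nat.card M₀ := hcard ▸ S.not_dvd_index
  have hMcard : Nat.card M = Nat.card M₀ :=
    (Nat.card_congr (M₀.equivMapOfInjective _ K.subtype_injective).toEquiv).symm
  have hidx : M₀.index = Nat.card (S : Subgroup K) := hcompl.symm.index_eq_card
  have hchar : ∀ k : K, k ^ Nat.card M₀ = 1 → k ∈ M₀ := by
    intro k hk
    obtain ⟨j, hj⟩ := (IsPGroup.iff_card).1 S.2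
    rw [← QuotientGroup.eq_one_iff (N := M₀), ← orderOf_eq_one_iff]
    refine Nat.eq_one_of_dvd_coprimes
      ((hp.out.coprime_iff_not_dvd.2 hnd₀).pow_left j) ?_ ?_
    · refine (orderOf_dvd_natCard _).trans ?_
      rw [← Subgroup.index_eq_card, hidx, hj]
    · exact orderOf_dvd_of_pow_eq_one (by rw [← QuotientGroup.mk_pow, hk, QuotientGroup.mk_one])
  haveI : M.Normal := ⟨by
    rintro _ ⟨m, hm, rfl⟩ g
    refine ⟨⟨g * m * g⁻¹, (inferInstance : K.Normal).conj_mem _ m.2 g⟩, hchar _ (Subtype.ext ?_),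
      rfl⟩
    rw [SubgroupClass.coe_pow, conj_pow, ← SubgroupClass.coe_pow]
    have : m ^ Nat.card M₀ = 1 := by
      have := congrArg Subtype.val (pow_card_eq_one' (x := (⟨m, hm⟩ : M₀)))
      simp only [SubgroupClass.coe_pow, OneMemClass.coe_one] at this
      exact this
    rw [this]
    simp⟩
  haveI : Fintype M := Fintype.ofFinite _
  have hnd : ¬ p ∣ Nat.card M := hMcard ▸ hnd₀
  have hMC : M ⊓ Subgroup.centralizer ((P : Subgroup G) : Set G) = ⊥ := by
    by_contra hne
    obtain ⟨θ, hθne, hθ⟩ := exists_isFix_ne_trivial P M hnd hne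
    set J := M ⊔ (P : Subgroup G)
    haveI : Fintype J := Fintype.ofFinite _
    haveI : Fintype (M.subgroupOf J) := Fintype.ofFinite _
    set θ' : IrrCharacter (M.subgroupOf J) :=
      ⟨fun x => θ.1 (Subgroup.subgroupOfEquivOfLe le_sup_left x),
        IsIrrCharacter.comp_surjective θ.2
          (Subgroup.subgroupOfEquivOfLe (le_sup_left : M ≤ J)).toMonoidHom (MulEquiv.surjective _)⟩
    have hθ'd : degree θ' = degree θ := degree_eq_of_apply_one (by
      show θ.1 (Subgroup.subgroupOfEquivOfLe le_sup_left 1) = _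
      rw [map_one, apply_one_eq_degree])
    have hinv : ∀ j : J, conjFun (M.subgroupOf J) θ'.1 j = θ'.1 := by
      intro j
      funext x
      obtain ⟨m, hm, y, hy, hmy⟩ := Subgroup.mem_sup_of_normal_left.1 j.2
      set x' : M := Subgroup.subgroupOfEquivOfLe le_sup_left x
      show θ.1 _ = θ.1 x'
      refine Eq.trans ?_ ((IsCharacter.isClassFunction (irr_isCharacter θ)
        (act P M ⟨y, hy⟩ x') ⟨m, hm⟩).trans (hθ ⟨y, hy⟩ x'))
      refine congrArg θ.1 (Subtype.ext ?_)
      show (j : G) * (x : J) * (j : G)⁻¹ = m * (y * (x : J) * y⁻¹) * m⁻¹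
      rw [← hmy]; group
    have hco : Nat.Coprime (M.subgroupOf J).index (Nat.card (M.subgroupOf J)) := by
      rw [Nat.card_congr (Subgroup.subgroupOfEquivOfLe (le_sup_left : M ≤ J)).toEquiv]
      show Nat.Coprime (M.relIndex J) _
      rw [Subgroup.relIndex_sup_left]
      exact (coprime_card P M hnd).symm.coprime_dvd_left (Subgroup.relIndex_dvd_card _ _)
    obtain ⟨η, ⟨hη, -⟩, -⟩ :=
      Clifford.existsUnique_extension_of_coprime_card θ' hinv hco
    have hηd : degree η = degree θ := by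
      have h1 := apply_one_eq_degree η
      rw [← Subgroup.coe_one (M.subgroupOf J), hη, apply_one_eq_degree, hθ'd] at h1
      exact_mod_cast h1.symm
    obtain ⟨χ, hχ, hne'⟩ := exists_over P le_sup_right η (by
      rw [hηd, ← Char.charDegree_eq_degree]
      exact fun h => hnd (h.trans (charDegree_dvd_card θ)))
    have hMne : classInner (fun x : M.subgroupOf J => χ.1 ((x : J) : G)) θ'.1 ≠ 0 := by
      refine classInner_comp_ne_zero (M.subgroupOf J).subtype
        (IsCharacter.restrict (irr_isCharacter χ) J) η θ' hne' ?_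
      rw [show (fun b => η.1 ((M.subgroupOf J).subtype b)) = θ'.1 from funext hη,
        classInner_irr_self θ'.2]
      exact one_ne_zero
    refine hMne ?_
    have hχM : (fun x : M.subgroupOf J => χ.1 ((x : J) : G)) =
        (χ.1 1) • (trivialChar (M.subgroupOf J)).1 := by
      funext x
      have hxK : ((x : J) : G) ∈ K :=
        Subgroup.map_subtype_le M₀ (Subgroup.mem_subgroupOf.1 x.2)
      simp [trivialChar, mem_kerPPrime.1 hxK χ hχ]
    rw [hχM, classInner_smul_left, classInner_irr_of_ne (trivialChar _).2 θ'.2, mul_zero]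
    intro h
    refine hθne (Subtype.ext (funext fun x => ?_))
    obtain ⟨x, rfl⟩ := (Subgroup.subgroupOfEquivOfLe (le_sup_left : M ≤ J)).surjective x
    exact (congrFun h x).symm
  refine Subgroup.normal_le_normalCore.2 ?_
  have hMN : M ≤ N := hmax M inferInstance hMC
  -- `K = M (K ∩ P)`
  intro k hk
  have hQ : IsPGroup p ((P : Subgroup G).subgroupOf K) :=
    P.2.comap_of_injective K.subtype K.subtype_injective
  set Q := (P : Subgroup G).subgroupOf K
  have hQi : ¬ p ∣ Q.index := Transfer.not_dvd_index_subgroupOf_of_normal P K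
  have hsup : M₀ ⊔ Q = ⊤ := by
    refine Subgroup.index_eq_one.1 (Nat.dvd_one.1 ?_)
    obtain ⟨j, hj⟩ := (IsPGroup.iff_card).1 S.2
    have h1 : (M₀ ⊔ Q).index ∣ p ^ j := hj ▸ hidx ▸ Subgroup.index_dvd_of_le le_sup_left
    have h2 : (M₀ ⊔ Q).index ∣ Q.index := Subgroup.index_dvd_of_le le_sup_right
    exact dvd_trans (Nat.dvd_gcd h1 h2)
      (dvd_of_eq ((hp.out.coprime_iff_not_dvd.2 hQi).pow_left j).gcd_eq_one)
  obtain ⟨m, hm, q, hq, hmq⟩ := Subgroup.mem_sup_of_normal_left.1
    (hsup ▸ Subgroup.mem_top (⟨k, hk⟩ : K))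
  have hkeq : k = (m : G) * (q : G) := (congrArg Subtype.val hmq).symm
  rw [hkeq]
  exact Subgroup.mul_mem _ (Subgroup.mem_sup_left (hMN ⟨m, hm, rfl⟩))
    (Subgroup.mem_sup_right (hKP ⟨q.2, hq⟩))

end Cfsg.Agent.KernelPPrime
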